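import Groth.Agent.W7Baer.Family
import Groth.Agent.W7ExtZero.Basic
import Groth.Agent.KFlat.Skyscraper
import Groth.Agent.DerPush.Basic
import Groth.Agent.QC.SubSheaf
import Mathlib.CategoryTheory.Adjunction.Triple
/-!
Locally injective modules on a scheme are injective.
-/

set_option autoImplicit false
set_option linter.style.haveILetI false
set_option backward.isDefEq.respectTransparency false

universe u

open CategoryTheory Category Limits Opposite AlgebraicGeometry TopologicalSpace

noncomputable section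

namespace Groth.Agent.W7Baer

variable {X : Scheme.{u}}

lemma germ_eq_zero_of_isZero (M : X.Modules) (x : X) (h : IsZero ((DerSch.stalkFunctor X x).obj M))
    {W : X.Opens} (hx : x ∈ W) (s : Γ(M, W)) : M.presheaf.germ W x hx s = 0 :=
  (ModuleCat.subsingleton_of_isZero h).elim _ _

lemma isZero_of_stalks (M : X.Modules) (h : ∀ x, IsZero ((DerSch.stalkFunctor X x).obj M)) : IsZero M := by
  refine (IsZero.iff_id_eq_zero M).2 (Scheme.Modules.hom_ext _ _ fun W => ?_)
  ext (s : Γ(M, W))
  refine TopCat.Presheaf.section_ext (C := AddCommGrpCat.{u}) ((SheafOfModules.toSheaf X.ringCatSheaf).obj M) W _ _ ?_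
  intro x hx
  exact (germ_eq_zero_of_isZero M x (h x) hx _).trans (germ_eq_zero_of_isZero M x (h x) hx _).symm

lemma isIso_of_isZero_kernel_cokernel {M N : X.Modules} (φ : M ⟶ N) (h1 : IsZero (kernel φ))
    (h2 : IsZero (cokernel φ)) : IsIso φ := by
  haveI : Mono φ := Preadditive.mono_of_isZero_kernel φ h1
  haveI : Epi φ := Preadditive.epi_of_isZero_cokernel φ h2
  exact isIso_of_mono_of_epi φ

variable (U : X.Opens)

/-- Stalks vanish outside `U`. -/
def SuppIn (M : X.Modules) : Prop := ∀ x, x ∉ U → IsZero ((DerSch.stalkFunctor X x).obj M)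

variable {U}

lemma SuppIn.of_mono {M N : X.Modules} (h : SuppIn U N) (φ : M ⟶ N) [Mono φ] : SuppIn U M := fun x hx =>
  haveI : Mono ((DerSch.stalkFunctor X x).map φ) := Functor.map_mono _ φ
  IsZero.of_mono ((DerSch.stalkFunctor X x).map φ) (h x hx)

lemma SuppIn.of_epi {M N : X.Modules} (h : SuppIn U M) (φ : M ⟶ N) [Epi φ] : SuppIn U N := fun x hx =>
  haveI : Epi ((DerSch.stalkFunctor X x).map φ) := Functor.map_epi _ φ
  IsZero.of_epi ((DerSch.stalkFunctor X x).map φ) (h x hx)

/-- A module supported in `U` with zero restriction to `U` is zero. -/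
lemma isZero_of_suppIn {M : X.Modules} (h : SuppIn U M)
    (h0 : IsZero ((Scheme.Modules.restrictFunctor U.ι).obj M)) : IsZero M := by
  refine isZero_of_stalks M fun x => ?_
  by_cases hx : x ∈ U
  · refine @ModuleCat.isZero_of_subsingleton _ _ _ (subsingleton_of_forall_eq 0 fun z => ?_)
    obtain ⟨W, hW, s, rfl⟩ := TopCat.Presheaf.exists_germ_eq M.presheaf z
    let W' : X.Opens := U.ι ''ᵁ (U.ι ⁻¹ᵁ W)
    have hle : W' ≤ W := U.ι.image_preimage_le W
    have hxW' : x ∈ W' := ⟨⟨x, hx⟩, hW, rfl⟩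
    have hz : ∀ t : Γ(M, W'), t = 0 := fun t => by
      have h1 := (IsZero.iff_id_eq_zero _).1 h0
      exact congr(($h1).app (U.ι ⁻¹ᵁ W) t)
    refine (TopCat.Presheaf.germ_res_apply M.presheaf (homOfLE hle) x hxW' s).symm.trans ?_
    exact (congrArg (M.presheaf.germ W' x hxW') (hz _)).trans (map_zero _)
  · exact h x hx

variable (U)

lemma suppIn_extZero (N : U.toScheme.Modules) : SuppIn U ((CxOX.extZero U.ι).obj N) := fun x hx => by
  let E := (DerSch.stalkFunctor X x).obj ((CxOX.extZero U.ι).obj N)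
  have hz : IsZero ((Scheme.Modules.restrictFunctor U.ι).obj ((KFlat.sky x).obj E)) := by
    refine (IsZero.iff_id_eq_zero _).2 (Scheme.Modules.hom_ext _ _ fun W => ?_)
    ext (s : Γ((KFlat.sky x).obj E, U.ι ''ᵁ W))
    refine funext fun h => ?_
    obtain ⟨y, -, hy⟩ := h.down
    exact absurd (hy ▸ y.2) hx
  refine (IsZero.iff_id_eq_zero _).2 ?_
  apply ((KFlat.skyAdjunction x).homEquiv _ _).injective
  apply ((CxOX.extZeroAdj U.ι).homEquiv _ _).injective
  exact hz.eq_of_tgt _ _

instance isIso_extZeroAdj_unit : IsIso (CxOX.extZeroAdj U.ι).unit := by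
  let t : Adjunction.Triple (CxOX.extZero U.ι) (Scheme.Modules.restrictFunctor U.ι)
      (Scheme.Modules.pushforward U.ι) := ⟨CxOX.extZeroAdj U.ι, Scheme.Modules.restrictAdjunction U.ι⟩
  exact t.isIso_unit_iff_isIso_counit.2 inferInstance

lemma isIso_counit {M : X.Modules} (h : SuppIn U M) : IsIso ((CxOX.extZeroAdj U.ι).counit.app M) := by
  let ε := (CxOX.extZeroAdj U.ι).counit.app M
  haveI : IsIso ((Scheme.Modules.restrictFunctor U.ι).map ε) := by
    have e := (CxOX.extZeroAdj U.ι).right_triangle_components M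
    rw [show (Scheme.Modules.restrictFunctor U.ι).map ε =
      inv ((CxOX.extZeroAdj U.ι).unit.app ((Scheme.Modules.restrictFunctor U.ι).obj M)) from
      (IsIso.eq_inv_of_hom_inv_id e)]
    infer_instance
  refine isIso_of_isZero_kernel_cokernel ε ?_ ?_
  · refine isZero_of_suppIn ((suppIn_extZero U _).of_mono (kernel.ι ε)) ?_
    exact IsZero.of_iso (isZero_kernel_of_mono ((Scheme.Modules.restrictFunctor U.ι).map ε))
      (PreservesKernel.iso (Scheme.Modules.restrictFunctor U.ι) ε)
  · refine isZero_of_suppIn (h.of_epi (cokernel.π ε)) ?_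
    exact IsZero.of_iso (isZero_cokernel_of_epi ((Scheme.Modules.restrictFunctor U.ι).map ε))
      (PreservesCokernel.iso (Scheme.Modules.restrictFunctor U.ι) ε)

variable {U}

lemma suppIn_extZeroUnit {V : X.Opens} (hV : V ≤ U) : SuppIn U (CxOX.extZeroUnit V.ι) :=
  fun x hx => suppIn_extZero V _ x fun h => hx (hV h)

/-- Lifting against subobjects of a module supported in an open where `F` is injective. -/
lemma exists_lift {F L S : X.Modules} (hF : Injective ((Scheme.Modules.restrictFunctor U.ι).obj F))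
    (hL : SuppIn U L) (i : S ⟶ L) [Mono i] (g : S ⟶ F) : ∃ g' : L ⟶ F, i ≫ g' = g := by
  let R := Scheme.Modules.restrictFunctor U.ι
  let adj := CxOX.extZeroAdj U.ι
  haveI := isIso_counit U hL
  haveI := isIso_counit U (hL.of_mono i)
  haveI : Mono (R.map i) := Functor.map_mono _ i
  let h' := Injective.factorThru (R.map g) (R.map i)
  refine ⟨inv (adj.counit.app L) ≫ (adj.homEquiv _ _).symm h', ?_⟩
  rw [← cancel_epi (adj.counit.app S)]
  have hn := adj.counit.naturality i
  dsimp at hn
  rw [← assoc, ← hn, assoc, IsIso.hom_inv_id_assoc, ← adj.homEquiv_naturality_left_symm,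
    Injective.comp_factorThru, adj.homEquiv_counit]
  exact adj.counit.naturality g

variable (F : X.Modules) (hF : ∀ x : X, ∃ U : X.Opens, x ∈ U ∧ Injective ((Scheme.Modules.restrictFunctor U.ι).obj F))

/-- The opens on which `F` is locally injective. -/
def Small : Type u := {V : X.Opens // ∃ U, V ≤ U ∧ Injective ((Scheme.Modules.restrictFunctor U.ι).obj F)}

include hF in
lemma detects : Detects (fun V : Small F => CxOX.extZeroUnit V.1.ι) := by
  intro M N p _ hp
  have hsec : ∀ (V : X.Opens), (∃ U, V ≤ U ∧ Injective ((Scheme.Modules.restrictFunctor U.ι).obj F)) →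
      Function.Surjective (p.app V) := fun V hV t => by
    let co := W7ExtZero.extZeroUnitCorep V
    obtain ⟨f, hf⟩ := (co.homEquiv (Y := N)).surjective t
    obtain ⟨a, ha⟩ := hp ⟨V, hV⟩ f
    exact ⟨co.homEquiv a, ((co.homEquiv_comp p a).symm.trans (congrArg co.homEquiv ha)).trans hf⟩
  haveI : ∀ x, IsIso ((TopCat.Presheaf.stalkFunctor AddCommGrpCat.{u} x).map
      ((SheafOfModules.toSheaf X.ringCatSheaf).map p).hom) := fun x => by
    rw [ConcreteCategory.isIso_iff_bijective]
    refine ⟨TopCat.Presheaf.stalkFunctor_map_injective_of_app_injective (fun W => ?_) x, fun z => ?_⟩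
    · exact QC.app_injective_of_mono p W
    · obtain ⟨W, hW, t, rfl⟩ := TopCat.Presheaf.exists_germ_eq N.presheaf z
      obtain ⟨U, hxU, hU⟩ := hF x
      obtain ⟨a, ha⟩ := hsec (W ⊓ U) ⟨U, inf_le_right, hU⟩ (QC.res N inf_le_left t)
      refine ⟨M.presheaf.germ (W ⊓ U) x ⟨hW, hxU⟩ a, ?_⟩
      refine (TopCat.Presheaf.stalkFunctor_map_germ_apply (W ⊓ U) x ⟨hW, hxU⟩ _ a).trans ?_
      exact (congrArg (N.presheaf.germ (W ⊓ U) x ⟨hW, hxU⟩) ha).trans
        (TopCat.Presheaf.germ_res_apply N.presheaf (homOfLE inf_le_left) x ⟨hW, hxU⟩ t)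
  haveI := TopCat.Presheaf.isIso_of_stalkFunctor_map_iso ((SheafOfModules.toSheaf X.ringCatSheaf).map p)
  rw [Scheme.Modules.Hom.isIso_iff_isIso_app]
  intro W
  exact inferInstanceAs (IsIso ((((SheafOfModules.toSheaf X.ringCatSheaf).map p).hom).app (op W)))

include hF in
/-- Locally injective modules are injective. -/
theorem injective_of_locally : Injective F := by
  rcases isEmpty_or_nonempty X with hX | hX
  · have hz : IsZero F := isZero_of_stalks F fun x => hX.elim x
    exact ⟨fun g f _ => ⟨0, hz.eq_of_tgt _ _⟩⟩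
  obtain ⟨x⟩ := hX
  obtain ⟨U, -, hU⟩ := hF x
  haveI : Nonempty (Small F) := ⟨⟨U, U, le_rfl, hU⟩⟩
  refine injective_of_family (detects F hF) F fun V S g => ?_
  obtain ⟨U, hVU, hU⟩ := V.2
  exact exists_lift hU (suppIn_extZeroUnit hVU) S.arrow g

end Groth.Agent.W7Baer
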